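import Groth.Agent.FlatFibrePD.TorDimension
import Groth.Agent.DRingAmp.Regular
import Groth.Agent.DRingTorAmp.PCModules
import Groth.Agent.S6935
import Groth.Prelude.Def_MoreMor
import Mathlib.RingTheory.RegularLocalRing.Polynomial
import Mathlib.RingTheory.KrullDimension.Polynomial
import Mathlib.RingTheory.LocalProperties.ProjectiveDimension

/-!
# Perfect modules over polynomial rings with finite tor dimension over the base
-/

set_option autoImplicit false
set_option linter.unusedSectionVars false

noncomputable section

universe u

open CategoryTheory CategoryTheory.Limits TensorProduct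

attribute [local instance] HasDerivedCategory.standard

namespace Groth.Agent.PerfHom

section Ses

variable {R : Type u} [CommRing R] {M : Type u} [AddCommGroup M] [Module R M] {r : ℕ}
  (f : (Fin r → R) →ₗ[R] M) (hf : Function.Surjective f)

include hf in
theorem shortExact : (f.shortComplexKer).ShortExact := LinearMap.shortExact_shortComplexKer hf

include hf in
theorem isPerfectModule_of_ker (h : DRing.IsPerfectModule R (LinearMap.ker f)) : DRing.IsPerfectModule R M :=
  DRingTorAmp.isPerfect_obj₃ (shortExact f hf).singleTriangle (shortExact f hf).singleTriangle_distinguished h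
    (DRingAmp.isPerfectModule_projective (Fin r → R))

include hf in
theorem isPseudoCoherentModule_ker (h : DRing.IsPseudoCoherentModule' R M) :
    DRing.IsPseudoCoherentModule' R (LinearMap.ker f) := by
  have hF := ((DRingTorAmp.isPerfect_iff _).1 (DRingAmp.isPerfectModule_projective (R := R) (Fin r → R))).1
  refine DRingKProj.pseudoCoherent'_of_forall fun m => ?_
  have := DRingKProj.isPseudoCoherent_obj₁ (shortExact f hf).singleTriangle
    (shortExact f hf).singleTriangle_distinguished (m - 1)
    (DRingKProj.isPseudoCoherent_of_pseudoCoherent' hF _) (DRingKProj.isPseudoCoherent_of_pseudoCoherent' h _)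
  rwa [sub_add_cancel] at this

end Ses

theorem finitePresentation_of_pc {R : Type u} [CommRing R] {M : Type u} [AddCommGroup M] [Module R M]
    (h : DRing.IsPseudoCoherentModule' R M) : Module.FinitePresentation R M :=
  (S6935.result R M).2.1 (DRingKProj.isPseudoCoherent_of_pseudoCoherent' h _)

/-- Finite modules over a regular ring of dimension `≤ n` have projective dimension `≤ n`. -/
theorem pdLT_of_isRegularRing {L : Type u} [CommRing L] [IsRegularRing L] {n : ℕ} (hd : ringKrullDim L ≤ n)
    (M : ModuleCat.{u} L) [Module.Finite L M] : HasProjectiveDimensionLT M (n + 1) := by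
  refine (M.hasProjectiveDimensionLE_iff_forall_maximalSpectrum n).2 fun m => ?_
  haveI := IsRegularRing.isRegularLocalRing_localization (R := L) m.1
  let Lm := Localization.AtPrime m.1
  obtain ⟨d, hd', hdn⟩ : ∃ d : ℕ, ringKrullDim Lm = d ∧ d ≤ n := by
    have h1 : ringKrullDim Lm ≤ n := (IsLocalization.AtPrime.ringKrullDim_eq_height m.1 Lm).trans_le
      ((Ideal.height_le_ringKrullDim_of_isPrime).trans hd)
    have h0 : (0 : WithBot ℕ∞) ≤ ringKrullDim Lm := ringKrullDim_nonneg_of_nontrivial
    have h2 := IsLocalRing.maximalIdeal_height_eq_ringKrullDim (R := Lm)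
    rw [← h2] at h1 ⊢
    have h3 : (IsLocalRing.maximalIdeal Lm).height ≤ (n : ℕ∞) := WithBot.coe_le_coe.1 h1
    obtain ⟨d, hd⟩ := ENat.ne_top_iff_exists.1 (h3.trans_lt (ENat.natCast_lt_top n)).ne
    exact ⟨d, by rw [← hd]; rfl, by rw [← hd] at h3; exact_mod_cast h3⟩
  exact CAlgReg.pdLT_mono (by omega) (CAlgReg.pdLT_of_isRegularLocalRing hd' (M.localizedModule m.1.primeCompl))

section Relative

variable {A : Type u} [CommRing A] {n : ℕ}

local notation "P" => MvPolynomial (Fin n) A

theorem pdLT_fibre (p : Ideal A) [p.IsPrime] (M : ModuleCat.{u} (P ⊗[A] p.ResidueField))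
    [Module.Finite (P ⊗[A] p.ResidueField) M] : HasProjectiveDimensionLT M (n + 1) := by
  let e : MvPolynomial (Fin n) p.ResidueField ≃+* P ⊗[A] p.ResidueField :=
    ((Algebra.TensorProduct.comm A P p.ResidueField).trans
      ((MvPolynomial.algebraTensorAlgEquiv (R := A) (σ := Fin n) (A := p.ResidueField)).restrictScalars A)).toRingEquiv.symm
  haveI := IsRegularRing.of_ringEquiv e
  refine pdLT_of_isRegularRing ?_ M
  rw [← ringKrullDim_eq_of_ringEquiv e, MvPolynomial.ringKrullDim_of_isNoetherianRing,
    ringKrullDim_eq_zero_of_field, zero_add, Nat.card_fin]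

theorem pdLT_of_flat (M : Type u) [AddCommGroup M] [Module P M] [Module A M] [IsScalarTower A P M]
    [Module.FinitePresentation P M] [Module.Flat A M] : HasProjectiveDimensionLT (ModuleCat.of P M) (n + 1) :=
  (FlatFibrePD.hasProjectiveDimensionLT_iff (A := A) (n + 1) M).2 fun p _ => pdLT_fibre p _

theorem isPerfectModule_of_pdLT : ∀ (k : ℕ) (M : Type u) [AddCommGroup M] [Module P M] [Module A M]
    [IsScalarTower A P M] [Module.FinitePresentation P M] [Module.Flat A M],
    HasProjectiveDimensionLT (ModuleCat.of P M) (k + 1) → DRing.IsPerfectModule P M := by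
  intro k
  induction k with
  | zero =>
    intro M _ _ _ _ _ _ h
    haveI : Module.Projective P M :=
      (IsProjective.iff_projective (R := P) M).2 (projective_iff_hasProjectiveDimensionLT_one.2 h)
    exact DRingAmp.isPerfectModule_projective M
  | succ k ih =>
    intro M _ _ _ _ _ _ h
    obtain ⟨r, π, hπ, hfp, hflat⟩ := FlatFibrePD.exists_step A P (M := M)
    refine isPerfectModule_of_ker π hπ (ih (LinearMap.ker π) ?_)
    exact ((shortExact π hπ).hasProjectiveDimensionLT_X₃_iff k
      ((IsProjective.iff_projective _).1 inferInstance)).1 h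

theorem isPerfectModule_of_flat (M : Type u) [AddCommGroup M] [Module P M] [Module A M] [IsScalarTower A P M]
    [Module.FinitePresentation P M] [Module.Flat A M] : DRing.IsPerfectModule P M :=
  isPerfectModule_of_pdLT n M (pdLT_of_flat M)

theorem isPerfectModule_of_torDim : ∀ (d : ℕ) (M : Type u) [AddCommGroup M] [Module P M] [Module A M]
    [IsScalarTower A P M], DRing.IsPseudoCoherentModule' P M → DRing.HasTorDimLE A d M →
    DRing.IsPerfectModule P M := by
  intro d
  induction d with
  | zero =>
    intro M _ _ _ _ hpc h
    haveI := TorShift.flat_of_hasTorDimLE_zero h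
    haveI := finitePresentation_of_pc hpc
    exact isPerfectModule_of_flat M
  | succ d ih =>
    intro M _ _ _ _ hpc h
    haveI := finitePresentation_of_pc hpc
    obtain ⟨r, π, hπ⟩ := Module.Finite.exists_fin' P M
    exact isPerfectModule_of_ker π hπ (ih (LinearMap.ker π) (isPseudoCoherentModule_ker π hπ hpc)
      (TorShift.hasTorDimLE_of_exact (i := (LinearMap.ker π).subtype.restrictScalars A) (π := π.restrictScalars A)
        Subtype.val_injective (LinearMap.exact_subtype_ker_map π) hπ h))

end Relative

/-- Perfect modules over a flat algebra have finite tor dimension over the base. -/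
theorem hasFiniteTorDim_of_perfect {A B M : Type u} [CommRing A] [CommRing B] [Algebra A B] [Module.Flat A B]
    [AddCommGroup M] [Module B M] [Module A M] [IsScalarTower A B M]
    (h : DRing.IsPerfectModule B M) : DRing.HasFiniteTorDim A M := by
  obtain ⟨Q, d, hzero, -⟩ := DRingTorAmp.exists_resolution_of_isPerfect M h
  have hflat : ∀ i, letI := Module.compHom (Q.complex.X i) (algebraMap A B); Module.Flat A (Q.complex.X i) := by
    intro i
    letI := Module.compHom (Q.complex.X i) (algebraMap A B)
    haveI : IsScalarTower A B (Q.complex.X i) := IsScalarTower.of_algebraMap_smul fun _ _ => rfl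
    haveI : Module.Projective B (Q.complex.X i) := (IsProjective.iff_projective (R := B) _).2 (Q.projective i)
    exact Module.Flat.trans A B (Q.complex.X i)
  letI : ∀ i, Module A (Q.complex.X i) := fun i => Module.compHom _ (algebraMap A B)
  haveI : ∀ i, IsScalarTower A B (Q.complex.X i) := fun i => IsScalarTower.of_algebraMap_smul fun _ _ => rfl
  haveI : ∀ i, Module.Flat A (Q.complex.X i) := hflat
  let K : ℕ → Type u := fun i => LinearMap.range (Q.complex.d (i + 1) i).hom
  have key : ∀ j i, d ≤ i + j → DRing.HasTorDimLE A j (LinearMap.range (Q.complex.d (i + 1) i).hom) := by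
    intro j
    induction j with
    | zero =>
      intro i hi
      haveI := ModuleCat.subsingleton_of_isZero (hzero (i + 1) (by omega))
      haveI : Subsingleton (LinearMap.range (Q.complex.d (i + 1) i).hom) :=
        (LinearMap.surjective_rangeRestrict (Q.complex.d (i + 1) i).hom).subsingleton
      exact FlatFibrePD.hasTorDimLE_zero_of_flat
    | succ j ih =>
      intro i hi
      have he : Function.Exact (Q.complex.d (i + 2) (i + 1)).hom (Q.complex.d (i + 1) i).hom :=
        (ShortComplex.ShortExact.moduleCat_exact_iff_function_exact _).1 (Q.exact_succ i)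
      refine FlatFibrePD.hasTorDimLE_succ_of_exact (R := A)
        (i := (LinearMap.range (Q.complex.d (i + 2) (i + 1)).hom).subtype.restrictScalars A)
        (π := (Q.complex.d (i + 1) i).hom.rangeRestrict.restrictScalars A) Subtype.val_injective ?_
        (LinearMap.surjective_rangeRestrict _) (ih (i + 1) (by omega))
      intro x
      constructor
      · intro hx
        exact ⟨⟨x, (he x).1 (congrArg Subtype.val hx)⟩, rfl⟩
      · rintro ⟨⟨_, y, rfl⟩, rfl⟩
        exact Subtype.ext (he.apply_apply_eq_zero y)
  let ε : Q.complex.X 0 →ₗ[B] M := (Q.π.f 0).hom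
  have he : Function.Exact (Q.complex.d 1 0).hom ε :=
    (ShortComplex.ShortExact.moduleCat_exact_iff_function_exact _).1 Q.exact₀
  refine ⟨d + 1, FlatFibrePD.hasTorDimLE_succ_of_exact (R := A)
    (i := (LinearMap.range (Q.complex.d 1 0).hom).subtype.restrictScalars A)
    (π := ε.restrictScalars A) Subtype.val_injective ?_
    ((ModuleCat.epi_iff_surjective (Q.π.f 0)).1 inferInstance) (key d 0 (by omega))⟩
  intro x
  constructor
  · intro hx
    exact ⟨⟨x, (he x).1 hx⟩, rfl⟩
  · rintro ⟨⟨_, y, rfl⟩, rfl⟩
    exact he.apply_apply_eq_zero y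

end Groth.Agent.PerfHom
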