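import Groth.Agent.PerfHom.Basic
import Groth.Agent.KoszulExt.Homology
import Groth.Agent.DRingTorAmp.Descent
import Groth.Agent.DRingKProj.Local
import Groth.Prelude.Def_LCI2
import Mathlib.RingTheory.TensorProduct.Quotient

/-!
# Quotients by Koszul regular ideals are perfect
-/

set_option autoImplicit false
set_option linter.unusedSectionVars false

noncomputable section

universe u

open CategoryTheory CategoryTheory.Limits TensorProduct

attribute [local instance] HasDerivedCategory.standard

namespace Groth.Agent.PerfHom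

variable {R : Type u} [CommRing R]

theorem isPerfect_of_iso {K L : Dual.D R} (e : K ≅ L) (h : DRing.IsPerfect R K) : DRing.IsPerfect R L := by
  obtain ⟨E, a, b, h1, h2, ⟨i⟩⟩ := h
  exact ⟨E, a, b, h1, h2, ⟨i ≪≫ e⟩⟩

theorem isPerfect_koszul : ∀ l : List R, DRing.IsPerfect R (DRing.toD (Koszul.koszul R l))
  | [] => isPerfect_of_iso (DRingTorAmp.inDIso R) (DRingAmp.isPerfectModule_projective R)
  | f :: l => DRingTorAmp.isPerfect_obj₃ (DerivedCategory.Q.mapTriangle.obj
      (CochainComplex.mappingCone.triangle (f • 𝟙 (Koszul.koszul R l))))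
      ((DerivedCategory.mem_distTriang_iff _).2 ⟨_, _, _, ⟨Iso.refl _⟩⟩) (isPerfect_koszul l) (isPerfect_koszul l)

theorem isPerfectModule_congr {M N : Type u} [AddCommGroup M] [Module R M] [AddCommGroup N] [Module R N]
    (e : M ≃ₗ[R] N) (h : DRing.IsPerfectModule R M) : DRing.IsPerfectModule R N :=
  isPerfect_of_iso ((DerivedCategory.singleFunctor (ModuleCat.{u} R) 0).mapIso e.toModuleIso) h

/-- The quotient by a Koszul regular sequence is perfect. -/
theorem isPerfectModule_quotient_span (l : List R) (hl : LCI.IsKoszulRegularSeq R l) :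
    DRing.IsPerfectModule R (R ⧸ Ideal.span {x | x ∈ l}) := by
  let C := Koszul.koszul R l
  let X : Dual.D R := DRing.toD C
  have hH : ∀ i : ℤ, i ≠ 0 → IsZero ((DerivedCategory.homologyFunctor (ModuleCat.{u} R) i).obj X) := fun i hi =>
    (hl i hi).of_iso ((DerivedCategory.homologyFunctorFactors (ModuleCat.{u} R) i).app C)
  haveI : X.IsLE 0 := (X.isLE_iff 0).2 fun i hi => hH i (by omega)
  haveI : X.IsGE 0 := (X.isGE_iff 0).2 fun i hi => hH i (by omega)
  obtain ⟨Y, ⟨e⟩⟩ := DerivedCategory.exists_iso_singleFunctor_obj_of_isGE_of_isLE X 0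
  have hY : DRing.IsPerfectModule R Y := isPerfect_of_iso e (isPerfect_koszul l)
  have h0 := KoszulExt.nonempty_homology_zero_iso l.get
  rw [List.ofFn_get, Set.range_list_get] at h0
  obtain ⟨e0⟩ := h0
  exact isPerfectModule_congr ((DRingTorAmp.h0InD Y).symm.trans
    ((((DerivedCategory.homologyFunctor (ModuleCat.{u} R) 0).mapIso e).symm ≪≫
      (DerivedCategory.homologyFunctorFactors (ModuleCat.{u} R) 0).app C ≪≫ e0).toLinearEquiv)) hY

/-- Perfectness is local. -/
theorem isPerfectModule_of_local (M : Type u) [AddCommGroup M] [Module R M]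
    (h : ∀ p : PrimeSpectrum R, ∃ g : R, g ∉ p.asIdeal ∧
      DRing.IsPerfectModule (Localization.Away g) (Localization.Away g ⊗[R] M)) :
    DRing.IsPerfectModule R M := by
  choose g hg hperf using h
  have hspan : Ideal.span (Set.range g) = ⊤ := by
    by_contra hne
    obtain ⟨m, hm, hle⟩ := Ideal.exists_le_maximal _ hne
    exact hg ⟨m, hm.isPrime⟩ (hle (Ideal.subset_span ⟨_, rfl⟩))
  obtain ⟨s, hs, hs1⟩ := Submodule.mem_span_finite_of_mem_span
    (show (1 : R) ∈ Submodule.span R (Set.range g) by rw [show Submodule.span R (Set.range g) = ⊤ from hspan]; trivial)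
  have hsel : ∀ i : Fin s.card, ∃ p, g p = (s.equivFin.symm i : R) := fun i => hs (s.equivFin.symm i).2
  choose q hq using hsel
  have htop : Ideal.span (Set.range fun i => g (q i)) = ⊤ := by
    rw [Ideal.eq_top_iff_one]
    have hsub : (s : Set R) ⊆ Set.range fun i => g (q i) := fun x hx =>
      ⟨s.equivFin ⟨x, hx⟩, by simp [hq]⟩
    exact Submodule.span_mono hsub hs1
  refine isPerfect_of_iso (DRingTorAmp.inDIso M).symm (DRingTorAmp.isPerfect_descend
    (DRingTorAmp.cover_away (fun i => g (q i)) htop) _ fun i => ?_)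
  let φ := algebraMap R (Localization.Away (g (q i)))
  refine isPerfect_of_iso ?_ (hperf (q i))
  exact DRingTorAmp.inDIso _ ≪≫ DerivedCategory.Q.mapIso
    ((HomologicalComplex.single (ModuleCat.{u} (Localization.Away (g (q i)))) (ComplexShape.up ℤ) 0).mapIso
      (DRingKProj.extendEquiv (ModuleCat.of R M)).toModuleIso.symm ≪≫
    (((HomologicalComplex.singleMapHomologicalComplex (ModuleCat.extendScalars φ) (ComplexShape.up ℤ) 0).app
      (ModuleCat.of R M)).symm))

/-- Quotients by Koszul regular ideals are perfect. -/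
theorem isPerfectModule_quotient (I : Ideal R) (hI : LCI.IsKoszulRegularIdeal I) :
    DRing.IsPerfectModule R (R ⧸ I) := by
  refine isPerfectModule_of_local _ fun p => ?_
  by_cases hp : I ≤ p.asIdeal
  · obtain ⟨g, hg, l, hl, hmap⟩ := hI p hp
    refine ⟨g, hg, isPerfectModule_congr ?_ (isPerfectModule_quotient_span l hl)⟩
    exact (Submodule.quotEquivOfEq _ _ hmap.symm).trans
      (Algebra.TensorProduct.quotIdealMapEquivTensorQuot (Localization.Away g) I).toLinearEquiv
  · obtain ⟨g, hgI, hg⟩ := SetLike.not_le_iff_exists.1 hp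
    refine ⟨g, hg, ?_⟩
    haveI : Subsingleton (Localization.Away g ⊗[R] (R ⧸ I)) := by
      refine subsingleton_of_forall_eq 0 fun z => ?_
      induction z with
      | zero => rfl
      | add a b ha hb => rw [ha, hb, add_zero]
      | tmul a b =>
        obtain ⟨v, hv⟩ := IsLocalization.Away.algebraMap_isUnit (S := Localization.Away g) g
        have : a = g • (↑v⁻¹ * a) := by
          rw [Algebra.smul_def, ← mul_assoc, ← hv, Units.mul_inv, one_mul]
        rw [this, TensorProduct.smul_tmul]
        obtain ⟨b, rfl⟩ := Ideal.Quotient.mk_surjective b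
        rw [Algebra.smul_def, show algebraMap R (R ⧸ I) g = 0 from Ideal.Quotient.eq_zero_iff_mem.2 hgI,
          zero_mul, TensorProduct.tmul_zero]
    exact DRingAmp.isPerfectModule_projective _

end Groth.Agent.PerfHom
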